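import Cfsg.Agent.Bt.Pc3

set_option autoImplicit false
set_option maxRecDepth 1000000

namespace CF.Bt.Blk22

open CF.Comp

noncomputable def X_0 : Net := (Net.cons (nat_lit 1) (nat_lit 4280384) (Net.cons (nat_lit 2) (nat_lit 2097696) (Net.cons (nat_lit 4) (nat_lit 264192) (Net.cons (nat_lit 8) (nat_lit 162) (Net.cons (nat_lit 16) (nat_lit 234) (Net.cons (nat_lit 8) (nat_lit 154) (Net.cons (nat_lit 4) (nat_lit 328972) (Net.cons (nat_lit 2) (nat_lit 8962) (Net.cons (nat_lit 1) (nat_lit 5325828) Net.nil)))))))))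
noncomputable def X_1 : Net := (Net.cons (nat_lit 1) (nat_lit 1115412) (Net.cons (nat_lit 2) (nat_lit 131360) (Net.cons (nat_lit 4) (nat_lit 589824) (Net.cons (nat_lit 8) (nat_lit 33) (Net.cons (nat_lit 16) (nat_lit 241) (Net.cons (nat_lit 8) (nat_lit 101) (Net.cons (nat_lit 4) (nat_lit 658440) (Net.cons (nat_lit 2) (nat_lit 1245458) (Net.cons (nat_lit 1) (nat_lit 327936) Net.nil)))))))))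
noncomputable def X : List Net := [X_0, X_1]
noncomputable def ws : List (List Nat) := [[3, 1, 15, 6, 11, 9, 16, 23, 19, 21], [7, 1, 19, 5, 18, 10, 15, 21, 25, 19, 23]]
noncomputable def c : List Lvl := [⟨1, [[1], [3]], 5⟩, ⟨2, [[1, 1, 3, 2], [2, 4, 4, 2], [4, 4, 1, 1, 1]], 3⟩, ⟨5, [[1, 1, 1, 3, 2, 2], [2, 3, 2, 2, 3, 3, 1], [1, 4, 2, 4, 1, 4, 1]], 2⟩, ⟨4, [[3, 2, 4, 1, 3, 1, 3, 2, 3], [2, 2, 3, 3, 2, 2, 2, 3, 3, 2], [1, 3, 2, 2, 4, 4, 1, 4, 2, 3]], 2⟩, ⟨3, [[2, 3, 2, 4, 1, 4, 1, 1, 4, 2, 4, 4]], 2⟩]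
noncomputable def e2 : List Nat := [3, 1, 1, 1, 3, 1, 1, 1]
noncomputable def Ce2T : Tr := (.op 2 0 (.op 5 0 (.xor 1 0 (.focus 0 (.sym [[1], [3], [5]] (.cons [] 3 24 (.focus 1 (.op 4 0 (.focus 0 (.cons [] 0 24 (.focus 3 (.xor 5 0 (.focus 0 (.xor 6 3 (.focus 0 (.sym [[3], [7]] (.cons [] 3 4 (.focus 6 (.op 4 0 (.focus 0 (.cons [] 0 4 (.focus 8 (.focus 4 (.focus 3 (.xor 10 0 (.focus 0 (.xor 11 3 (.focus 0 (.sym [[7], [9]] (.cons [] 1 1 .triv (.cons [5] 1 0 (.base (nat_lit 2) (.and 0 13 (.dead0 0))) (.cons [3, 5] 1 0 (.base (nat_lit 128) (.and 0 13 (.dead0 0))) .nil))))))))))) .nil)))) (.cons [2] 2 0 (.base (nat_lit 4168) (.and 0 8 (.dead0 0))) .nil)))))))) .nil)))) .nil))))))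
noncomputable def Ce2TK : List (List Nat) := [[2, 2, 2, 4], [1, 3, 3, 1, 4, 2, 3, 2], [4, 1, 1, 1, 4, 1, 1, 3, 2, 4, 1], [1, 3, 2, 3, 2, 4, 1, 1, 1, 1], [4, 1, 4, 4, 1, 4, 1, 4, 2, 4, 2, 2]]
noncomputable def Ce2TF : List (List Nat) := [[], [1]]
noncomputable def Ce2 : CD := ⟨[⟨20, [[1], [3]], 4⟩, ⟨2, [[3, 3, 1], [1, 3, 2]], 4⟩, ⟨16, [[2, 2, 2, 3], [3, 1, 4, 1, 1, 3, 1]], 4⟩, ⟨6, [[4, 2, 4, 1, 4, 1, 1, 4, 1], [4, 2, 2, 3, 1, 4, 2, 2, 2], [2, 3, 3, 2, 2, 3, 1, 3, 2, 3]], 1⟩, ⟨4, [[2, 2, 2, 2, 3, 1, 4, 1, 4, 2], [4, 1, 3, 2, 2, 3, 3, 1, 1, 4], [2, 4, 4, 2, 3, 3, 2, 2, 3, 2, 2, 2], [1, 1, 3, 1, 3, 2, 3, 2, 3, 3, 2, 3]], 1⟩], Ce2TF, Ce2TK, Ce2T⟩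
noncomputable def ce2 : List Lvl := [⟨1, [[2, 2, 2, 4], [1, 4, 1, 3, 2, 4, 4, 2], [1, 3, 2, 3, 2, 4, 1, 4]], 3⟩, ⟨2, [[1, 4, 2, 2, 3, 1, 3, 1, 1, 4], [3, 1, 4, 4, 2, 4, 1, 1, 1, 1, 1]], 2⟩, ⟨3, [[3, 1, 1, 4, 2, 3, 3, 2, 3, 2, 2], [2, 2, 3, 2, 4, 1, 4, 2, 3, 1, 1, 3]], 1⟩]
noncomputable def e5 : List Nat := [3]
noncomputable def Ce5T : Tr := (.op 2 0 (.op 5 0 (.xor 1 0 (.focus 0 (.sym [[1]] (.cons [] 4 1 (.op 4 0 (.focus 0 (.cons [] 0 1 (.op 4 0 (.focus 0 (.cons [] 0 1 (.op 4 0 (.focus 0 (.cons [] 0 1 (.op 4 0 (.focus 0 (.cons [] 0 1 .triv .nil))) .nil))) .nil))) .nil))) (.cons [2] 4 0 (.op 4 0 (.focus 0 (.cons [3, 1] 0 0 (.op 4 0 (.focus 0 (.cons [1, 6] 0 0 (.op 4 0 (.focus 0 (.cons [3] 0 0 (.base (nat_lit 4360) (.and 0 9 (.dead0 0))) .nil))) .nil)))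 .nil))) (.cons [1] 4 0 (.op 4 0 (.focus 0 (.cons [3, 2, 2] 0 0 (.op 4 0 (.focus 0 (.cons [6, 1] 0 0 (.base (nat_lit 7257550) (.and 0 7 (.dead 0))) .nil))) .nil))) (.cons [1, 3] 4 0 (.op 4 0 (.focus 0 (.cons [3] 0 0 (.op 4 0 (.focus 0 (.cons [6, 2] 0 0 (.base (nat_lit 7257550) (.and 0 7 (.dead 0))) .nil))) .nil))) .nil)))))))))
noncomputable def Ce5TK : List (List Nat) := [[3]]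
noncomputable def Ce5TF : List (List Nat) := [[], [1]]
noncomputable def Ce5 : CD := ⟨[⟨14, [[1], [3]], 4⟩, ⟨4, [[2, 3, 2, 2], [2, 2, 2, 4]], 4⟩, ⟨16, [[4, 2, 4, 1, 1, 1, 1], [3, 2, 2, 2, 2, 3, 1], [4, 4, 2, 4, 4, 2, 3, 3]], 3⟩, ⟨1, [[3, 2, 2, 2, 2, 3, 1], [3, 3, 2, 3, 3, 1, 4, 4, 1], [2, 2, 4, 1, 4, 1, 4, 1, 3, 3]], 2⟩, ⟨3, [[3, 1, 1, 3, 3, 1, 4, 1, 3, 1, 1]], 2⟩], Ce5TF, Ce5TK, Ce5T⟩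
noncomputable def e7 : List Nat := [4, 1]
noncomputable def Ce7T : Tr := (.op 2 0 (.op 5 0 (.xor 1 0 (.focus 0 (.sym [[1]] (.cons [] 6 1 (.op 4 0 (.focus 0 (.cons [] 0 1 (.op 4 0 (.focus 0 (.cons [] 0 1 (.op 4 0 (.focus 0 (.cons [] 0 1 (.op 4 0 (.focus 0 (.cons [] 0 1 .triv .nil))) .nil))) .nil))) .nil))) (.cons [1] 6 0 (.op 4 0 (.focus 0 (.cons [5, 4] 0 0 (.op 4 0 (.focus 0 (.cons [3, 1] 0 0 (.base (nat_lit 6280668) (.op 4 1 (.op 4 0 (.and 2 0 (.dead0 0))))) .nil))) .nil))) (.cons [3] 6 0 (.op 4 0 (.focus 0 (.cons [9, 2] 0 0 (.op 4 0 (.focus 0 (.cons [1] 0 0 (.base (nat_lit 6280668) (.op 4 1 (.op 4 0 (.and 2 0 (.dead0 0))))) .nil))) .nil))) .nil))))))))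
noncomputable def Ce7TK : List (List Nat) := [[2, 3]]
noncomputable def Ce7TF : List (List Nat) := [[], [1]]
noncomputable def Ce7 : CD := ⟨[⟨1, [[1], [3]], 5⟩, ⟨9, [[1, 1, 3, 2], [2, 4, 4, 2], [4, 4, 1, 1, 1]], 4⟩, ⟨5, [[1, 1, 4, 1, 1, 3], [3, 2, 4, 4, 2, 4]], 4⟩, ⟨16, [[2, 2, 4, 2, 2, 3, 2, 3, 3, 2], [4, 4, 2, 4, 2, 2, 4, 1, 3, 3], [2, 3, 2, 3, 2, 3, 3, 2, 2, 4]], 2⟩, ⟨21, [[1, 1, 4, 1, 1, 1, 4, 2, 2, 3, 3, 1, 1]], 2⟩], Ce7TF, Ce7TK, Ce7T⟩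
noncomputable def e11 : List Nat := [1]
noncomputable def Ce11T : Tr := (.op 2 0 (.op 5 0 (.xor 1 0 (.focus 0 (.sym [[1]] (.cons [] 10 1 (.op 4 0 (.focus 0 (.cons [] 0 1 (.op 4 0 (.focus 0 (.cons [] 0 1 (.op 4 0 (.focus 0 (.cons [] 0 1 (.op 4 0 (.focus 0 (.cons [] 0 1 .triv .nil))) .nil))) .nil))) .nil))) (.cons [4] 10 0 (.op 4 0 (.focus 0 (.cons [11, 4] 0 0 (.op 4 0 (.focus 0 (.cons [] 0 0 (.base (nat_lit 5766968) (.op 4 1 (.op 4 0 (.and 2 0 (.dead0 0))))) .nil))) .nil))) .nil)))))))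
noncomputable def Ce11TK : List (List Nat) := [[1]]
noncomputable def Ce11TF : List (List Nat) := [[], [1]]
noncomputable def Ce11 : CD := ⟨[⟨1, [[1], [3]], 5⟩, ⟨2, [[1, 1, 3, 2], [2, 4, 4, 2], [4, 4, 1, 1, 1]], 3⟩, ⟨6, [[1, 1, 1, 3, 2, 2], [2, 3, 2, 2, 3, 3, 1], [1, 4, 2, 4, 1, 4, 1]], 3⟩, ⟨14, [[3, 1, 1, 1, 3, 2, 3, 2, 3], [3, 1, 3, 2, 4, 1, 1, 1, 4], [3, 1, 1, 4, 2, 4, 1, 1, 4]], 2⟩, ⟨7, [[4, 1, 4, 4, 2, 3, 2, 3, 1, 3, 2, 3, 1]], 2⟩], Ce11TF, Ce11TK, Ce11T⟩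
noncomputable def S2 : PD := ⟨[[1, 4, 2, 2, 3, 2, 3, 3, 2, 2, 4, 1], [4, 4, 2, 4, 1, 4, 2, 4, 2, 2, 4, 2, 2], [4, 2, 3, 1, 1, 3, 1, 1, 3, 2, 4, 1, 1, 3, 1], [2, 2, 4, 4, 1, 3, 1, 3, 2, 3, 3], [1, 3, 1, 3, 2, 2, 4, 4, 1, 4, 2, 2], [1, 3, 1, 1, 3, 2, 2, 3, 2, 3, 2, 4, 1], [3, 1, 1, 1, 3, 1, 1, 1]], [([], [[11, 5, 1], [11, 3], [5], [11, 9, 7], [9], [11]]), ([], [[9, 5], [3], [9, 1], [9, 7], [9]]), ([], [[7, 5, 1], [3], [5], [7]]), ([], [[3, 1], [3], [5]]), ([], [[1], [3]]), ([], [[1]]), ([], [])], [⟨21, [[2, 2, 2, 4], [1, 4, 4, 2, 2, 3, 3, 1, 1], [4, 4, 2, 4, 1, 1, 1, 3, 3, 1, 1]], 2⟩, ⟨19, [[4, 4, 1, 3, 3, 2, 2, 4, 1, 4], [4, 1, 1, 4, 1, 4, 4, 1, 3, 2, 2]], 2⟩], [[9, 7, 1], [11, 3, 1], [11, 3], [5, 3], [13, 9, 5, 3]]⟩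
noncomputable def F2B : BT Ent := (.node 631008 (.node 292780 (.node 95648 (.node 24748 (.node 12836 (.leaf ⟨10801, [2, 2, 2, 3, 2, 3, 1, 1, 3], 0⟩) (.leaf ⟨12836, [2, 3, 2, 3, 1, 1, 4, 2], 0⟩)) (.node 58781 (.leaf ⟨24748, [1, 1, 3, 2, 3, 2, 4], 0⟩) (.leaf ⟨58781, [1, 1, 1, 4, 4, 1, 4, 2], 0⟩))) (.node 231932 (.node 229306 (.leaf ⟨95648, [1, 4, 4, 2, 3, 3, 1, 1, 1], 0⟩) (.leaf ⟨229306, [2, 2, 2, 4, 4, 2, 3, 3, 2], 0⟩)) (.node 246486 (.leaf ⟨231932, [2, 4, 1, 1, 1, 4, 1, 3, 2], 0⟩) (.node 266659 (.leaf ⟨246486, [3, 2, 2, 3, 1, 1, 3], 0⟩) (.leaf ⟨266659, [2, 2, 2, 2, 4, 1, 3, 1, 1], 0⟩))))) (.node 472927 (.node 419467 (.node 312837 (.leaf ⟨292780, [3, 3, 2, 2, 4, 1, 4, 1], 0⟩) (.leaf ⟨312837, [3, 1, 3, 3, 2, 2, 4], 0⟩)) (.node 430384 (.leaf ⟨419467, [],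 1⟩) (.leaf ⟨430384, [2, 4, 2, 4, 2, 3, 2, 2, 2], 0⟩))) (.node 596401 (.node 593816 (.leaf ⟨472927, [4, 2, 3, 1, 1, 3, 1], 0⟩) (.leaf ⟨593816, [1, 4, 2, 3, 1, 1, 4, 4, 2], 0⟩)) (.node 623998 (.leaf ⟨596401, [1, 1, 3, 1, 4, 4], 0⟩) (.node 627698 (.leaf ⟨623998, [1, 3, 2, 4, 1, 4, 1, 4], 0⟩) (.leaf ⟨627698, [2, 4, 1, 1, 3, 2, 3, 1], 0⟩)))))) (.node 853139 (.node 744762 (.node 688562 (.node 636368 (.leaf ⟨631008, [2, 3, 1, 1, 1, 1, 4, 2, 2], 0⟩) (.leaf ⟨636368, [4, 4, 1, 1, 4, 1, 1, 4, 2], 0⟩)) (.node 704912 (.leaf ⟨688562, [4, 2, 4, 4, 1, 1, 1, 3, 2], 0⟩) (.leaf ⟨704912, [4, 2, 2, 2, 3, 3, 1, 1], 0⟩))) (.node 776770 (.node 770445 (.leaf ⟨744762, [1, 4, 2, 4, 4, 2, 3, 2], 0⟩) (.leaf ⟨770445, [1, 1, 4, 2, 2, 3, 3, 1], 0⟩)) (.node 779175 (.leaf ⟨776770, [1,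 4, 2, 2, 2, 4, 2], 0⟩) (.node 832454 (.leaf ⟨779175, [3, 3, 2, 2, 3, 1, 1], 0⟩) (.leaf ⟨832454, [2, 2, 4, 2, 4, 2, 2, 3, 2], 0⟩))))) (.node 939007 (.node 903250 (.node 877112 (.leaf ⟨853139, [3, 1, 3, 2, 2, 3, 1, 4, 1], 0⟩) (.leaf ⟨877112, [2, 4, 1, 4, 4, 2, 3, 1, 1], 0⟩)) (.node 929128 (.leaf ⟨903250, [2, 2, 2, 2, 2, 4, 2, 4, 2], 0⟩) (.leaf ⟨929128, [4, 2, 3, 2, 3, 3, 2, 3, 2], 0⟩))) (.node 978430 (.node 977021 (.leaf ⟨939007, [2, 3, 2, 4, 2, 2], 0⟩) (.leaf ⟨977021, [2, 4, 2, 3, 3, 2, 3, 2, 2], 0⟩)) (.node 994073 (.leaf ⟨978430, [1, 1, 4, 2, 2, 4, 1, 1], 0⟩) (.node 999350 (.leaf ⟨994073, [4, 1, 3, 2, 2, 3, 2, 4, 2], 0⟩) (.leaf ⟨999350, [2, 2, 3, 1, 1, 4, 2, 3, 2], 0⟩)))))))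
noncomputable def F2 : FD := ⟨1000003, F2B, [[[], [2], [1], [2, 2], [3], [4], [5], [6], [3, 1], [1, 4], [3, 2], [2, 4], [2, 7], [1, 8], [2, 8], [5, 1]], [[], [2], [1], [4], [2, 2], [4, 2], [4, 1], [2, 2, 4]]]⟩
noncomputable def S3 : PD := ⟨[[2, 2, 4, 4], [2, 4, 4, 1, 1, 3, 1, 3, 3, 1, 4, 4]], [([], [[1]]), ([], [])], [⟨21, [[2, 2, 4, 4], [2, 4, 4, 1, 1, 3, 1, 3, 3, 1, 4, 4]], 2⟩], [[1], [3]]⟩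
noncomputable def V0 : PD := ⟨[], [], [], []⟩
noncomputable def Q4 : PD := ⟨[[3, 2, 3, 1, 3, 3, 1, 1, 3, 1, 1, 3, 1], [1, 1, 3, 1, 1, 3, 1, 4, 2, 2, 4, 4], [1, 3, 1, 1, 3, 2, 2, 3, 2, 3, 2, 4, 1], [4, 4, 1, 3, 1, 4, 2, 2, 2, 2, 4, 2]], [([], [[1], [3], [5]]), ([], [[1], [3]]), ([], [[1]]), ([], [])], [⟨5, [[2, 2, 2, 4, 2, 2, 2, 4], [4, 4, 1, 4, 2, 4, 2, 3, 3, 1, 1], [4, 2, 2, 3, 3, 2, 4, 2, 2, 2, 2], [2, 3, 1, 1, 4, 4, 1, 4, 1, 1, 3, 2]], 1⟩], [[5, 3], [7, 5, 1], [5, 3, 1], [5, 1]]⟩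
noncomputable def UQ4 : List (List (List Nat)) := [[[3, 1], [3], [5], [7, 5, 3]], [[7, 5], [7, 5, 3, 1], [7, 1], [5, 3, 1]], [[7, 5, 3], [7, 1], [7, 5, 3, 1], [3, 1]], [[1], [7, 3, 1], [7, 5, 1], [3, 1]], [[3, 1], [7, 5, 1], [7, 3, 1], [7, 5]], [[5, 3, 1], [7, 3, 1], [7, 5, 1], [7, 5, 3]], [[7, 5, 3], [5], [3], [5, 3, 1]]]
noncomputable def CQ4T : Tr := (.op 2 0 (.op 5 0 (.xor 1 0 (.focus 0 (.sym [[1], [3], [5], [7]] (.cons [] 1 1 (.focus 1 (.xor 3 0 (.focus 0 (.op 16 1 (.op 22 0 (.focus 0 (.cons [] 0 1 (.focus 5 (.focus 3 (.xor 7 0 (.focus 0 (.xor 8 3 (.focus 0 (.op 10 2 (.op 22 0 (.focus 0 (.cons [] 0 1 (.focus 2 (.cons [] 0 1 (.focus 11 (.focus 5 (.focus 9 (.focus 4 (.xor 13 0 (.focus 0 (.xor 14 2 (.focus 0 (.op 16 2 (.focus 0 (.cons [] 0 1 .triv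 .nil))))))))))) .nil)) .nil)))))))))) .nil))))))) .nil))))))
noncomputable def CQ4TK : List (List Nat) := [[3, 2, 3, 1, 3, 3, 1, 1, 3, 1, 1, 3, 1], [1, 1, 3, 1, 1, 3, 1, 4, 2, 2, 4, 4], [1, 3, 1, 1, 3, 2, 2, 3, 2, 3, 2, 4, 1], [4, 4, 1, 3, 1, 4, 2, 2, 2, 2, 4, 2]]
noncomputable def CQ4TF : List (List Nat) := [[], [1], [3], [5], [7], [3, 1], [5, 1], [7, 1], [5, 3], [7, 3], [7, 5], [5, 3, 1], [7, 3, 1], [7, 5, 1], [7, 5, 3], [7, 5, 3, 1]]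
noncomputable def CQ4 : CD := ⟨[⟨1, [[1], [3]], 5⟩, ⟨13, [[1, 1, 3, 2], [2, 4, 4, 2], [4, 4, 1, 1, 1]], 3⟩, ⟨15, [[4, 1, 3, 2, 4, 4], [1, 1, 3, 1, 1, 4, 1]], 5⟩, ⟨17, [[2, 4, 2, 4, 4, 1, 1], [4, 4, 1, 1, 1, 4, 2, 3, 2, 4], [2, 2, 4, 2, 2, 2, 2, 3, 1, 1, 1]], 1⟩, ⟨4, [[2, 3, 3, 2, 2, 3, 3, 1, 4, 1, 4, 2], [2, 4, 1, 1, 3, 2, 2, 3, 3, 2, 3, 3], [3, 1, 4, 2, 3, 1, 4, 1, 4, 4, 1, 1, 1], [1, 4, 2, 2, 3, 3, 1, 3, 2, 3, 1, 3, 1]], 1⟩], CQ4TF, CQ4TK, CQ4T⟩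

end CF.Bt.Blk22
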